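import Cfsg.Agent.L0.PcCert
import Cfsg.Agent.L0.Dw
import Cfsg.Agent.H3.Mu.G23.Tab

/-! Generated certificate: the `2`-part of a Schur multiplier. -/

set_option autoImplicit false
set_option maxRecDepth 100000

open Cfsg.Agent.L0

namespace Cfsg.Agent.H3.G23.P2

noncomputable def W : List (List ℕ) := [
  dw (nat_lit 4) (nat_lit 15) (nat_lit 8) (nat_lit 0x6723df0),
  dw (nat_lit 4) (nat_lit 15) (nat_lit 9) (nat_lit 0x563b7f05),
  dw (nat_lit 4) (nat_lit 15) (nat_lit 10) (nat_lit 0x31f76d017),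
  dw (nat_lit 4) (nat_lit 15) (nat_lit 9) (nat_lit 0x67d76767),
  dw (nat_lit 4) (nat_lit 15) (nat_lit 8) (nat_lit 0x1232327d),
  dw (nat_lit 4) (nat_lit 15) (nat_lit 9) (nat_lit 0x1367ec3b3),
  dw (nat_lit 4) (nat_lit 15) (nat_lit 8) (nat_lit 0x3f63f023),
  dw (nat_lit 4) (nat_lit 15) (nat_lit 9) (nat_lit 0x6936d7b3),
  dw (nat_lit 4) (nat_lit 15) (nat_lit 8) (nat_lit 0xf7963f67)]

noncomputable def P : PcP := ⟨nat_lit 2, nat_lit 1, nat_lit 5, nat_lit 0x410410410c20c30451c600920b680, nat_lit 6, nat_lit 63, nat_lit 11, nat_lit 2047, nat_lit 2, nat_lit 32, nat_lit 5, nat_lit 6⟩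

noncomputable def fu : Fus := ⟨[nat_lit 8, nat_lit 4, nat_lit 2, nat_lit 1, nat_lit 8, nat_lit 4, nat_lit 1, nat_lit 32, nat_lit 8, nat_lit 2, nat_lit 1],
  [nat_lit 48, nat_lit 7, nat_lit 3, nat_lit 1, nat_lit 13, nat_lit 2, nat_lit 1, nat_lit 61, nat_lit 1, nat_lit 29, nat_lit 9],
  [nat_lit 6, nat_lit 6, nat_lit 6, nat_lit 6, nat_lit 7, nat_lit 7, nat_lit 7, nat_lit 8, nat_lit 8, nat_lit 8, nat_lit 8]⟩

noncomputable def lam : List ℕ := [nat_lit 0x0,
  nat_lit 0x0,
  nat_lit 0x40000000000000800,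
  nat_lit 0x0,
  nat_lit 0x40000000000000000,
  nat_lit 0x400800]

noncomputable def bs : List ℕ := []

noncomputable def mo : List ℕ := []

noncomputable def cv0 : List ℕ := [nat_lit 0x40000000000000000000000000000000000000000000000000,
  nat_lit 0x20000000000000000000000000000000000000000000000000000,
  nat_lit 0x80000000000000000000000000000000000000000000000,
  nat_lit 0x10000000000000200000000000000000000000000000000000000000,
  nat_lit 0x10000000080000000000000000000000000000000000000000000000,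
  nat_lit 0x10000000000000000400000000004000000000000000000000000000,
  nat_lit 0x10020000000100000000000000000000000000000000000000000000,
  nat_lit 0x10020000000000200400800000000000000000000000000000000000,
  nat_lit 0x10020000000100000000000002000000000000000000100000000000,
  nat_lit 0x10000000000000000400001000004000000000000080000200000000,
  nat_lit 0x10000000080100000000001000000000000000000000000000000000,
  nat_lit 0x20040000100000400800002000000010000000000000000000000,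
  nat_lit 0x1000000000010020000000000000000000000000000000000000000000000000000,
  nat_lit 0x10000000000000200000001002004000000000000000000000000000,
  nat_lit 0x80000000400001002000000000000000000100000400801,
  nat_lit 0x1000000000010000000000100200400000000004000010020040000000000000000,
  nat_lit 0x200000000000000000000000000000000000400000000000008000000000000000000000000,
  nat_lit 0x80000000000000000000008010000000000000000000000,
  nat_lit 0x10000000000000000000000000000000000000000080000000000000,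
  nat_lit 0x20000000000000000000000000000000020040080100000000801000000008010020000080100000400000,
  nat_lit 0x10020040080100200000001000000008010020040000000200400800]

noncomputable def cc0 : List Con := [
  ⟨nat_lit 1, nat_lit 3, nat_lit 3, [nat_lit 4], [], nthN cv0 (nat_lit 0)⟩,
  ⟨nat_lit 1, nat_lit 4, nat_lit 4, [nat_lit 2], [], nthN cv0 (nat_lit 1)⟩,
  ⟨nat_lit 0, nat_lit 2, nat_lit 4, [nat_lit 2], [], nthN cv0 (nat_lit 2)⟩,
  ⟨nat_lit 1, nat_lit 0, nat_lit 0, [nat_lit 2], [], nthN cv0 (nat_lit 3)⟩,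
  ⟨nat_lit 0, nat_lit 1, nat_lit 2, [nat_lit 8], [], nthN cv0 (nat_lit 4)⟩,
  ⟨nat_lit 1, nat_lit 0, nat_lit 0, [nat_lit 4], [], nthN cv0 (nat_lit 5)⟩,
  ⟨nat_lit 0, nat_lit 1, nat_lit 4, [nat_lit 2], [], nthN cv0 (nat_lit 6)⟩,
  ⟨nat_lit 0, nat_lit 0, nat_lit 3, [nat_lit 4], [], nthN cv0 (nat_lit 7)⟩,
  ⟨nat_lit 1, nat_lit 1, nat_lit 1, [nat_lit 16], [], nthN cv0 (nat_lit 8)⟩,
  ⟨nat_lit 1, nat_lit 0, nat_lit 0, [nat_lit 16], [], nthN cv0 (nat_lit 9)⟩,
  ⟨nat_lit 1, nat_lit 1, nat_lit 1, [nat_lit 8], [], nthN cv0 (nat_lit 10)⟩,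
  ⟨nat_lit 1, nat_lit 1, nat_lit 1, [nat_lit 4], [], nthN cv0 (nat_lit 11)⟩,
  ⟨nat_lit 2, nat_lit 6, nat_lit 0, [nat_lit 2, nat_lit 2], [nat_lit 3], nthN cv0 (nat_lit 12)⟩,
  ⟨nat_lit 2, nat_lit 6, nat_lit 0, [nat_lit 2, nat_lit 0], [nat_lit 0, nat_lit 2], nthN cv0 (nat_lit 13)⟩,
  ⟨nat_lit 2, nat_lit 6, nat_lit 0, [nat_lit 0, nat_lit 0], [], nthN cv0 (nat_lit 14)⟩,
  ⟨nat_lit 2, nat_lit 6, nat_lit 0, [nat_lit 1, nat_lit 0], [nat_lit 0, nat_lit 1, nat_lit 3], nthN cv0 (nat_lit 15)⟩,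
  ⟨nat_lit 2, nat_lit 7, nat_lit 0, [nat_lit 5, nat_lit 5], [nat_lit 6], nthN cv0 (nat_lit 16)⟩,
  ⟨nat_lit 2, nat_lit 7, nat_lit 0, [nat_lit 4, nat_lit 4], [], nthN cv0 (nat_lit 17)⟩,
  ⟨nat_lit 2, nat_lit 8, nat_lit 0, [nat_lit 8, nat_lit 8], [], nthN cv0 (nat_lit 18)⟩,
  ⟨nat_lit 2, nat_lit 8, nat_lit 0, [nat_lit 9, nat_lit 9], [nat_lit 10], nthN cv0 (nat_lit 19)⟩,
  ⟨nat_lit 2, nat_lit 8, nat_lit 0, [nat_lit 7, nat_lit 7], [], nthN cv0 (nat_lit 20)⟩]

theorem con0 : allL cc0 (P.conOk fu) = true := by decide +kernel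

noncomputable def CV : List (List ℕ) := [cv0]

noncomputable def MU : List (List ℕ) := [[nat_lit 0x16fbb2],
  [nat_lit 0,
  nat_lit 0],
  [nat_lit 0x40672,
  nat_lit 0x169b8a,
  nat_lit 0x40014],
  [nat_lit 0,
  nat_lit 0x160269,
  nat_lit 0x169215,
  nat_lit 0x149211],
  [nat_lit 0x16be84,
  nat_lit 0x169aca,
  nat_lit 0x446,
  nat_lit 0x16be3a,
  nat_lit 0x16beb0],
  [nat_lit 0x1c,
  nat_lit 0x56,
  nat_lit 0x4,
  nat_lit 0x1,
  nat_lit 0x2,
  nat_lit 0x14]]

noncomputable def lv : List (List (List ℕ) × ℕ × List (ℕ × List ℕ)) := [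
  ([[nat_lit 1], [nat_lit 2], [nat_lit 3], [nat_lit 4], [nat_lit 5]], nat_lit 0, [(nat_lit 0, []), (nat_lit 2, [nat_lit 2, nat_lit 3, nat_lit 1]), (nat_lit 3, [nat_lit 4, nat_lit 2, nat_lit 0]), (nat_lit 11, [nat_lit 3, nat_lit 1, nat_lit 0]), (nat_lit 19, [nat_lit 3, nat_lit 0]), (nat_lit 20, [nat_lit 3, nat_lit 1]), (nat_lit 21, [nat_lit 0, nat_lit 2, nat_lit 1]), (nat_lit 23, [nat_lit 1, nat_lit 2, nat_lit 0]), (nat_lit 38, [nat_lit 4, nat_lit 2]), (nat_lit 83, [nat_lit 2]), (nat_lit 90, [nat_lit 3, nat_lit 2]), (nat_lit 98, [nat_lit 4, nat_lit 1]), (nat_lit 101, [nat_lit 2, nat_lit 0, nat_lit 0]), (nat_lit 102, [nat_lit 1, nat_lit 2]), (nat_lit 103, [nat_lit 2, nat_lit 0]), (nat_lit 121, [nat_lit 0]), (nat_lit 129, [nat_lit 2, nat_lit 3, nat_lit 0]), (nat_lit 142, [nat_lit 4, nat_lit 3]), (nat_lit 152, [nat_lit 0, nat_lit 1]), (nat_lit 183, [nat_lit 4, nat_lit 0]), (nat_lit 223, [nat_lit 0, nat_lit 3]), (nat_lit 227, [nat_lit 2, nat_lit 3]),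 (nat_lit 243, [nat_lit 3]), (nat_lit 259, [nat_lit 0, nat_lit 1, nat_lit 2]), (nat_lit 289, [nat_lit 2, nat_lit 1]), (nat_lit 298, [nat_lit 0, nat_lit 2]), (nat_lit 307, [nat_lit 2, nat_lit 1, nat_lit 0]), (nat_lit 315, [nat_lit 0, nat_lit 0]), (nat_lit 334, [nat_lit 1, nat_lit 0]), (nat_lit 338, [nat_lit 4]), (nat_lit 348, [nat_lit 0, nat_lit 0, nat_lit 0]), (nat_lit 360, [nat_lit 1])]),
  ([[nat_lit 0]], nat_lit 206, [(nat_lit 206, []), (nat_lit 209, [nat_lit 0])])]

theorem rel0 : P.relRow (dT T W) B 0 = true := by decide +kernel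
theorem rel1 : P.relRow (dT T W) B 1 = true := by decide +kernel
theorem rel2 : P.relRow (dT T W) B 2 = true := by decide +kernel
theorem rel3 : P.relRow (dT T W) B 3 = true := by decide +kernel
theorem rel4 : P.relRow (dT T W) B 4 = true := by decide +kernel
theorem rel5 : P.relRow (dT T W) B 5 = true := by decide +kernel
theorem fus0 : P.fusOk (dT T W) B fu 0 = true := by decide +kernel
theorem fus1 : P.fusOk (dT T W) B fu 1 = true := by decide +kernel
theorem fus2 : P.fusOk (dT T W) B fu 2 = true := by decide +kernel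
theorem fus3 : P.fusOk (dT T W) B fu 3 = true := by decide +kernel
theorem fus4 : P.fusOk (dT T W) B fu 4 = true := by decide +kernel
theorem fus5 : P.fusOk (dT T W) B fu 5 = true := by decide +kernel
theorem fus6 : P.fusOk (dT T W) B fu 6 = true := by decide +kernel
theorem fus7 : P.fusOk (dT T W) B fu 7 = true := by decide +kernel
theorem fus8 : P.fusOk (dT T W) B fu 8 = true := by decide +kernel
theorem fus9 : P.fusOk (dT T W) B fu 9 = true := by decide +kernel
theorem fus10 : P.fusOk (dT T W) B fu 10 = true := by decide +kernel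
theorem fin0 : P.finRow lam (bs :: CV) MU 0 = true := by decide +kernel
theorem fin1 : P.finRow lam (bs :: CV) MU 1 = true := by decide +kernel
theorem fin2 : P.finRow lam (bs :: CV) MU 2 = true := by decide +kernel
theorem fin3 : P.finRow lam (bs :: CV) MU 3 = true := by decide +kernel
theorem fin4 : P.finRow lam (bs :: CV) MU 4 = true := by decide +kernel
theorem fin5 : P.finRow lam (bs :: CV) MU 5 = true := by decide +kernel

theorem pm {G : Type*} [Group G] [Finite G] {A : RAct G 364} {g : ℕ → G} (hb : A.IsBase B)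
    (h : A.Tab g 16 T) (ho : Nat.card G = 4245696) : PMult G 2 0 0 :=
  pmult_of_tab hb h ho P (show Nat.Prime 2 by norm_num) W fu 0 lam bs mo [cc0] CV MU lv 11
    (by decide +kernel) (forall_lt_succ' (forall_lt_succ' (forall_lt_succ' (forall_lt_succ' (forall_lt_succ' (forall_lt_succ' forall_lt_zero' rel0) rel1) rel2) rel3) rel4) rel5) (by decide +kernel)
    (forall_lt_succ' (forall_lt_succ' (forall_lt_succ' (forall_lt_succ' (forall_lt_succ' (forall_lt_succ' (forall_lt_succ' (forall_lt_succ' (forall_lt_succ' (forall_lt_succ' (forall_lt_succ' forall_lt_zero' fus0) fus1) fus2) fus3) fus4) fus5) fus6) fus7) fus8) fus9) fus10)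
    (by decide +kernel) (by decide +kernel) (by decide +kernel) (by decide +kernel)
    (List.forall_mem_cons.mpr ⟨con0, (by simp)⟩)
    (forall_lt_succ' (forall_lt_succ' (forall_lt_succ' (forall_lt_succ' (forall_lt_succ' (forall_lt_succ' forall_lt_zero' fin0) fin1) fin2) fin3) fin4) fin5) (by decide +kernel)

end Cfsg.Agent.H3.G23.P2
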