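import Cfsg.Agent.L0.PcCert
import Cfsg.Agent.L0.Dw
import Cfsg.Agent.H3.Mu.G23.Tab

/-! Generated certificate: the `3`-part of a Schur multiplier. -/

set_option autoImplicit false
set_option maxRecDepth 100000

open Cfsg.Agent.L0

namespace Cfsg.Agent.H3.G23.P3

noncomputable def W : List (List ℕ) := [
  dw (nat_lit 4) (nat_lit 15) (nat_lit 8) (nat_lit 0x3f72d3e7),
  dw (nat_lit 4) (nat_lit 15) (nat_lit 9) (nat_lit 0x7f5327e4),
  dw (nat_lit 4) (nat_lit 15) (nat_lit 9) (nat_lit 0x2a727e7b1),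
  dw (nat_lit 4) (nat_lit 15) (nat_lit 8) (nat_lit 0xf53db76),
  dw (nat_lit 4) (nat_lit 15) (nat_lit 6) (nat_lit 0x43fc70),
  dw (nat_lit 4) (nat_lit 15) (nat_lit 7) (nat_lit 0x3fc3de7),
  dw (nat_lit 4) (nat_lit 15) (nat_lit 8) (nat_lit 0x3cb7e3b3),
  dw (nat_lit 4) (nat_lit 15) (nat_lit 8) (nat_lit 0xe7a2436)]

noncomputable def P : PcP := ⟨nat_lit 3, nat_lit 2, nat_lit 5, nat_lit 0x100100100100100000400400400400001a01501400904806a006116000, nat_lit 12, nat_lit 4095, nat_lit 15, nat_lit 32767, nat_lit 9, nat_lit 33, nat_lit 8, nat_lit 8⟩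

noncomputable def fu : Fus := ⟨[nat_lit 1024, nat_lit 256, nat_lit 64, nat_lit 16, nat_lit 4, nat_lit 1, nat_lit 1024, nat_lit 256, nat_lit 64, nat_lit 16, nat_lit 4, nat_lit 1],
  [nat_lit 1028, nat_lit 2562, nat_lit 1176, nat_lit 36, nat_lit 8, nat_lit 1, nat_lit 2070, nat_lit 1285, nat_lit 2448, nat_lit 34, nat_lit 4, nat_lit 2],
  [nat_lit 6, nat_lit 6, nat_lit 6, nat_lit 6, nat_lit 6, nat_lit 6, nat_lit 7, nat_lit 7, nat_lit 7, nat_lit 7, nat_lit 7, nat_lit 7]⟩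

noncomputable def lam : List ℕ := [nat_lit 0xe00000000000000000000000007001000200000000000e00000040000000000200040000000000000000000000000000040008,
  nat_lit 0xe001c00000080000001c00000070000001c00380000000000000400000010001c00380070000001c0000007000e001c0038007,
  nat_lit 0x10000000000000010001c0040000000e00000000007000000200038007000000000000000000e001c00000070000000000400070010001c0040008,
  nat_lit 0xc00180000003000000180000006000000180030000000000000018000000600180030006000000180000006000c00140038006,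
  nat_lit 0x6000c00000060000000c00000030000000c0018000000000000030000000c000c00180030000000c0000003000800100008003,
  nat_lit 0x800000008000]

noncomputable def bs : List ℕ := [nat_lit 0x400000070006000c0018000]

noncomputable def mo : List ℕ := [nat_lit 0x1a577a1332f54c]

noncomputable def cv0 : List ℕ := [nat_lit 0xc0000000000000000000000000000000000000,
  nat_lit 0x600000000000000000000000000000000000000000000000000000000,
  nat_lit 0x18000000000000000000000000000000000000000000000000,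
  nat_lit 0xc0000000000000000000000000000000000000000000000000000000000000000000,
  nat_lit 0x600000000000000000000000000000000000000000000000000000000000000000000000,
  nat_lit 0xc00000000000000000000000000000000000000000,
  nat_lit 0x6000000000000000000000000000000000000000000000000000000000000,
  nat_lit 0x6000000000000000000000000000000000000000000000,
  nat_lit 0x30000000000000000000000000000000000000000000000000000000000000000,
  nat_lit 0x2000000000000000000200000000000000000000000000000000000000000,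
  nat_lit 0x8000000000000000002000000000000000000000000000000000000000000000,
  nat_lit 0x1000000000000000000000000000000000000000000000000000000000000000000000000,
  nat_lit 0x400000000000000c00000000000000c0000000000000000000000,
  nat_lit 0x400000000000000000000040000000000000000000000000000000000000000000000000,
  nat_lit 0x1000200000000000000000000000000000000000000000000000000000000000000000000,
  nat_lit 0x8000c00180000000000000200030000000000000000000000c00000000000000000000000000,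
  nat_lit 0xc000000000010000001c0000006000400000000000000000000000006000000000000000,
  nat_lit 0x70006001800000000000001c0030000000000000000006000000000000000000000000000000,
  nat_lit 0x40002000000000010008000400000000000000000000000000000000000000000,
  nat_lit 0x400040000000000200000040000001000040000000000000000000000000000000000000,
  nat_lit 0x20010001800000000006000800200000000000400080000000000c0000000000000000018000,
  nat_lit 0x20002001800000000006000c00200000000000800100000000000c0000000000600000000000,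
  nat_lit 0xe00000010007000000000038001000e00080000001000e00000000000000000000000000,
  nat_lit 0xc0000000000000000000000000000000000000000000000000000000000000000000000000000000000000000000000000,
  nat_lit 0x18000000000000000000000000000000000000000040000000000000000000000000000000000000000000000000000,
  nat_lit 0x180000000000000000000000000400000000000000c0000000000000000000000000000000000000,
  nat_lit 0x40000000000000000000000000000000000000,
  nat_lit 0x3000000000000000000000000000000000000040030000000000000008000000000000000000000000000000000,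
  nat_lit 0x40000000000000000000000000000000000000000000040000000000040000000000000040000000000000000000000,
  nat_lit 0x1c0040008000000000000001000a001400000020004000000000000010001c0000000000200000000000000000000008000,
  nat_lit 0x2000400000000000000000010004001c0000002000000080020000000600040000000000600100000000000000000000000,
  nat_lit 0x1c0038007000000000000002000a00100010000000000040008000000000040000002000000040000000000200000000000,
  nat_lit 0x1c00400000000000c0000008000a000c0000006000a00140008000000e000c0010000000800140000000000000040030002,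
  nat_lit 0x200038000000600000000000000000100040000000400080038000000000100018001000000040008000000600000000001,
  nat_lit 0x600000000000000000000000000000000000000000000000000000000000000000000000000000000000000000000000000000000000000000000,
  nat_lit 0x3000000000000000000000000000000000000000000001000000000000000000000000000000000000000000000000000000000000000000000000000,
  nat_lit 0xc0000000000000000000000000000000000002000000180000000000000000000000000000000008000000000000000000000000000000000,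
  nat_lit 0x8001000000000000000000000000000000000000000000000c00200000002000400040000000000400000000000000200080000000000000000000000,
  nat_lit 0x10000000000000000000000000000000000000000000002001c00000000008000400080000000000800000000000000c0000000000000000000000,
  nat_lit 0x6000000000000000000000000020006000c0000000000c000c0020000000000100008000000000180000000000000000000001]

noncomputable def cc0 : List Con := [
  ⟨nat_lit 1, nat_lit 0, nat_lit 0, [nat_lit 4], [], nthN cv0 (nat_lit 0)⟩,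
  ⟨nat_lit 1, nat_lit 0, nat_lit 0, [nat_lit 1], [], nthN cv0 (nat_lit 1)⟩,
  ⟨nat_lit 1, nat_lit 3, nat_lit 3, [nat_lit 4], [], nthN cv0 (nat_lit 2)⟩,
  ⟨nat_lit 1, nat_lit 3, nat_lit 3, [nat_lit 1], [], nthN cv0 (nat_lit 3)⟩,
  ⟨nat_lit 1, nat_lit 4, nat_lit 4, [nat_lit 1], [], nthN cv0 (nat_lit 4)⟩,
  ⟨nat_lit 0, nat_lit 1, nat_lit 4, [nat_lit 4, nat_lit 4], [], nthN cv0 (nat_lit 5)⟩,
  ⟨nat_lit 0, nat_lit 1, nat_lit 5, [nat_lit 1, nat_lit 1], [], nthN cv0 (nat_lit 6)⟩,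
  ⟨nat_lit 0, nat_lit 2, nat_lit 4, [nat_lit 4, nat_lit 4], [], nthN cv0 (nat_lit 7)⟩,
  ⟨nat_lit 0, nat_lit 2, nat_lit 5, [nat_lit 1, nat_lit 1], [], nthN cv0 (nat_lit 8)⟩,
  ⟨nat_lit 1, nat_lit 1, nat_lit 1, [nat_lit 256], [], nthN cv0 (nat_lit 9)⟩,
  ⟨nat_lit 1, nat_lit 2, nat_lit 2, [nat_lit 64], [], nthN cv0 (nat_lit 10)⟩,
  ⟨nat_lit 0, nat_lit 0, nat_lit 3, [nat_lit 1], [], nthN cv0 (nat_lit 11)⟩,
  ⟨nat_lit 1, nat_lit 0, nat_lit 0, [nat_lit 16], [], nthN cv0 (nat_lit 12)⟩,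
  ⟨nat_lit 0, nat_lit 0, nat_lit 1, [nat_lit 4], [], nthN cv0 (nat_lit 13)⟩,
  ⟨nat_lit 0, nat_lit 0, nat_lit 1, [nat_lit 1], [], nthN cv0 (nat_lit 14)⟩,
  ⟨nat_lit 0, nat_lit 1, nat_lit 3, [nat_lit 16, nat_lit 16], [], nthN cv0 (nat_lit 15)⟩,
  ⟨nat_lit 0, nat_lit 1, nat_lit 2, [nat_lit 64, nat_lit 64], [], nthN cv0 (nat_lit 16)⟩,
  ⟨nat_lit 0, nat_lit 2, nat_lit 3, [nat_lit 16, nat_lit 16], [], nthN cv0 (nat_lit 17)⟩,
  ⟨nat_lit 0, nat_lit 1, nat_lit 2, [nat_lit 16], [], nthN cv0 (nat_lit 18)⟩,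
  ⟨nat_lit 0, nat_lit 0, nat_lit 1, [nat_lit 16], [], nthN cv0 (nat_lit 19)⟩,
  ⟨nat_lit 1, nat_lit 0, nat_lit 0, [nat_lit 256], [], nthN cv0 (nat_lit 20)⟩,
  ⟨nat_lit 1, nat_lit 0, nat_lit 0, [nat_lit 64], [], nthN cv0 (nat_lit 21)⟩,
  ⟨nat_lit 0, nat_lit 0, nat_lit 1, [nat_lit 64], [], nthN cv0 (nat_lit 22)⟩,
  ⟨nat_lit 2, nat_lit 6, nat_lit 0, [nat_lit 5, nat_lit 5, nat_lit 5], [], nthN cv0 (nat_lit 23)⟩,
  ⟨nat_lit 2, nat_lit 6, nat_lit 0, [nat_lit 4, nat_lit 4, nat_lit 4], [], nthN cv0 (nat_lit 24)⟩,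
  ⟨nat_lit 2, nat_lit 6, nat_lit 0, [nat_lit 0, nat_lit 0, nat_lit 0], [], nthN cv0 (nat_lit 25)⟩,
  ⟨nat_lit 2, nat_lit 6, nat_lit 0, [nat_lit 4, nat_lit 0], [nat_lit 0, nat_lit 4], nthN cv0 (nat_lit 26)⟩,
  ⟨nat_lit 2, nat_lit 6, nat_lit 0, [nat_lit 3, nat_lit 3, nat_lit 3], [], nthN cv0 (nat_lit 27)⟩,
  ⟨nat_lit 2, nat_lit 6, nat_lit 0, [nat_lit 3, nat_lit 0], [nat_lit 0, nat_lit 3, nat_lit 4], nthN cv0 (nat_lit 28)⟩,
  ⟨nat_lit 2, nat_lit 6, nat_lit 0, [nat_lit 1, nat_lit 0], [nat_lit 0, nat_lit 1, nat_lit 3, nat_lit 4, nat_lit 5, nat_lit 5], nthN cv0 (nat_lit 29)⟩,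
  ⟨nat_lit 2, nat_lit 6, nat_lit 0, [nat_lit 3, nat_lit 1], [nat_lit 1, nat_lit 3, nat_lit 4, nat_lit 5], nthN cv0 (nat_lit 30)⟩,
  ⟨nat_lit 2, nat_lit 6, nat_lit 0, [nat_lit 2, nat_lit 0], [nat_lit 0, nat_lit 2, nat_lit 3, nat_lit 3, nat_lit 4, nat_lit 4, nat_lit 5, nat_lit 5], nthN cv0 (nat_lit 31)⟩,
  ⟨nat_lit 2, nat_lit 6, nat_lit 0, [nat_lit 1, nat_lit 1, nat_lit 1], [nat_lit 4, nat_lit 5, nat_lit 5], nthN cv0 (nat_lit 32)⟩,
  ⟨nat_lit 2, nat_lit 6, nat_lit 0, [nat_lit 2, nat_lit 2, nat_lit 2], [nat_lit 4, nat_lit 4, nat_lit 5], nthN cv0 (nat_lit 33)⟩,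
  ⟨nat_lit 2, nat_lit 7, nat_lit 0, [nat_lit 10, nat_lit 10, nat_lit 10], [], nthN cv0 (nat_lit 34)⟩,
  ⟨nat_lit 2, nat_lit 7, nat_lit 0, [nat_lit 11, nat_lit 11, nat_lit 11], [], nthN cv0 (nat_lit 35)⟩,
  ⟨nat_lit 2, nat_lit 7, nat_lit 0, [nat_lit 9, nat_lit 9, nat_lit 9], [], nthN cv0 (nat_lit 36)⟩,
  ⟨nat_lit 2, nat_lit 7, nat_lit 0, [nat_lit 9, nat_lit 7], [nat_lit 7, nat_lit 9, nat_lit 10, nat_lit 11], nthN cv0 (nat_lit 37)⟩,
  ⟨nat_lit 2, nat_lit 7, nat_lit 0, [nat_lit 9, nat_lit 6], [nat_lit 6, nat_lit 9, nat_lit 10], nthN cv0 (nat_lit 38)⟩,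
  ⟨nat_lit 2, nat_lit 7, nat_lit 0, [nat_lit 6, nat_lit 6, nat_lit 6], [], nthN cv0 (nat_lit 39)⟩]

theorem con0 : allL cc0 (P.conOk fu) = true := by decide +kernel

noncomputable def cv1 : List ℕ := [nat_lit 0x7001000000000003000000000000000000000000000003000a000800000030006000c0010000000a00080008000000400040000000000000000018001,
  nat_lit 0x7001000200000000000000000000000000000000000008001000080000007001000000000000000e00080000000001000000000000000000000008000,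
  nat_lit 0xe00000000000000000000000000000000000000007000c00180040000001000200030004000200180008006000e00000000001000400000040000]

noncomputable def cc1 : List Con := [
  ⟨nat_lit 2, nat_lit 7, nat_lit 0, [nat_lit 7, nat_lit 7, nat_lit 7], [nat_lit 10, nat_lit 11, nat_lit 11], nthN cv1 (nat_lit 0)⟩,
  ⟨nat_lit 2, nat_lit 7, nat_lit 0, [nat_lit 7, nat_lit 6], [nat_lit 6, nat_lit 7, nat_lit 9, nat_lit 10, nat_lit 11, nat_lit 11], nthN cv1 (nat_lit 1)⟩,
  ⟨nat_lit 2, nat_lit 7, nat_lit 0, [nat_lit 8, nat_lit 7], [nat_lit 7, nat_lit 8, nat_lit 10, nat_lit 10], nthN cv1 (nat_lit 2)⟩]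

theorem con1 : allL cc1 (P.conOk fu) = true := by decide +kernel

noncomputable def CV : List (List ℕ) := [cv0, cv1]

noncomputable def MU : List (List ℕ) := [[nat_lit 0x76d18f98e676b98dcfd09c1c47df891a207],
  [nat_lit 0,
  nat_lit 0],
  [nat_lit 0,
  nat_lit 0xde65e742fff96ad999b4af6399712b39,
  nat_lit 0x9e6f10881dd7215485346f562f72dc1e430],
  [nat_lit 0x1bccbce85fff2d5b333695ec732e25671,
  nat_lit 0x14008f4907f05d3cf7f5bc8160de26f5692,
  nat_lit 0x3b996e170a6a828190ae107ae58bfe9a68b,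
  nat_lit 0x76d882c84f736d68c71684bb2dc13621d79],
  [nat_lit 0x180cd7c79aad1080fa894c8,
  nat_lit 0x4f3fa3fa614e52a71243b0d4494d6c8040e,
  nat_lit 0x632466868efa535762b9826e3d4ce711f11,
  nat_lit 0x1551ef4ff0f3,
  nat_lit 0x29b31b5c9007c8d9b7abe1a3dff303987],
  [nat_lit 0x4f3fa3fa614e55a8ad3218944321905eddf,
  nat_lit 0x8aa17897b6ebb48949096e29bb9fb922b01,
  nat_lit 0x9e7f47f4c29c8a3fae6874c01a95ac92b37,
  nat_lit 0xbd4fd4b03fc1,
  nat_lit 0x41c21cb8e1,
  nat_lit 0x76c3a93aa12fb2ce4f9c5a3c2f48c44f0cc]]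

noncomputable def lv : List (List (List ℕ) × ℕ × List (ℕ × List ℕ)) := [
  ([[nat_lit 1], [nat_lit 2], [nat_lit 3], [nat_lit 4], [nat_lit 5]], nat_lit 0, [(nat_lit 0, []), (nat_lit 3, [nat_lit 2, nat_lit 1, nat_lit 0, nat_lit 0]), (nat_lit 4, [nat_lit 3, nat_lit 2, nat_lit 0, nat_lit 2, nat_lit 0]), (nat_lit 5, [nat_lit 4, nat_lit 2, nat_lit 2, nat_lit 1, nat_lit 1]), (nat_lit 6, [nat_lit 4, nat_lit 4, nat_lit 2, nat_lit 2]), (nat_lit 8, [nat_lit 0, nat_lit 0, nat_lit 0, nat_lit 0, nat_lit 0]), (nat_lit 10, [nat_lit 2, nat_lit 1, nat_lit 1, nat_lit 1]), (nat_lit 11, [nat_lit 3, nat_lit 0, nat_lit 2, nat_lit 0]), (nat_lit 12, [nat_lit 4, nat_lit 4, nat_lit 2]), (nat_lit 14, [nat_lit 1, nat_lit 2, nat_lit 2]), (nat_lit 16, [nat_lit 4, nat_lit 3, nat_lit 2, nat_lit 2]), (nat_lit 17, [nat_lit 1, nat_lit 0, nat_lit 1]), (nat_lit 18, [nat_lit 4, nat_lit 3, nat_lit 2, nat_lit 0]), (nat_lit 19, [nat_lit 3, nat_lit 0,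 nat_lit 2, nat_lit 2]), (nat_lit 21, [nat_lit 3, nat_lit 2, nat_lit 1, nat_lit 2, nat_lit 1]), (nat_lit 23, [nat_lit 2, nat_lit 1]), (nat_lit 24, [nat_lit 2]), (nat_lit 25, [nat_lit 2, nat_lit 0, nat_lit 0, nat_lit 1]), (nat_lit 27, [nat_lit 2, nat_lit 1, nat_lit 2, nat_lit 1]), (nat_lit 30, [nat_lit 2, nat_lit 0, nat_lit 1, nat_lit 0]), (nat_lit 31, [nat_lit 4, nat_lit 1, nat_lit 2, nat_lit 0]), (nat_lit 32, [nat_lit 4, nat_lit 3]), (nat_lit 34, [nat_lit 4, nat_lit 2, nat_lit 0, nat_lit 2]), (nat_lit 35, [nat_lit 4, nat_lit 1, nat_lit 0, nat_lit 0]), (nat_lit 36, [nat_lit 4, nat_lit 4, nat_lit 2, nat_lit 1]), (nat_lit 38, [nat_lit 3, nat_lit 3, nat_lit 1]), (nat_lit 39, [nat_lit 4, nat_lit 1]), (nat_lit 40, [nat_lit 0, nat_lit 2, nat_lit 2, nat_lit 1, nat_lit 1, nat_lit 0]), (nat_lit 42, [nat_lit 2, nat_lit 1, nat_lit 0, nat_lit 1]), (nat_lit 43, [nat_lit 4, nat_lit 0, nat_lit 1]), (nat_lit 46, [nat_lit 0, nat_lit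 2, nat_lit 1, nat_lit 1]), (nat_lit 47, [nat_lit 4, nat_lit 0, nat_lit 0]), (nat_lit 48, [nat_lit 0, nat_lit 1, nat_lit 0, nat_lit 0]), (nat_lit 50, [nat_lit 0, nat_lit 2, nat_lit 0, nat_lit 1, nat_lit 1]), (nat_lit 51, [nat_lit 3, nat_lit 2, nat_lit 2]), (nat_lit 53, [nat_lit 2, nat_lit 2, nat_lit 0, nat_lit 1, nat_lit 1]), (nat_lit 54, [nat_lit 1, nat_lit 2, nat_lit 0, nat_lit 1, nat_lit 0]), (nat_lit 56, [nat_lit 0, nat_lit 0, nat_lit 0]), (nat_lit 57, [nat_lit 4, nat_lit 4, nat_lit 0, nat_lit 1, nat_lit 1, nat_lit 0]), (nat_lit 59, [nat_lit 4, nat_lit 2, nat_lit 2, nat_lit 1, nat_lit 0]), (nat_lit 60, [nat_lit 3, nat_lit 3, nat_lit 1, nat_lit 1]), (nat_lit 62, [nat_lit 1, nat_lit 2, nat_lit 2, nat_lit 1, nat_lit 0]), (nat_lit 63, [nat_lit 3, nat_lit 0, nat_lit 2]), (nat_lit 66, [nat_lit 4, nat_lit 2, nat_lit 0, nat_lit 2, nat_lit 0]), (nat_lit 68, [nat_lit 1, nat_lit 1]), (nat_lit 69, [nat_lit 0, nat_lit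 2, nat_lit 2, nat_lit 1, nat_lit 1]), (nat_lit 71, [nat_lit 3, nat_lit 3, nat_lit 0, nat_lit 2]), (nat_lit 72, [nat_lit 1, nat_lit 2, nat_lit 2, nat_lit 0]), (nat_lit 73, [nat_lit 4, nat_lit 0, nat_lit 1, nat_lit 0]), (nat_lit 74, [nat_lit 3, nat_lit 2, nat_lit 2, nat_lit 0]), (nat_lit 75, [nat_lit 1, nat_lit 1, nat_lit 1, nat_lit 0]), (nat_lit 76, [nat_lit 4, nat_lit 3, nat_lit 0]), (nat_lit 78, [nat_lit 4, nat_lit 1, nat_lit 2, nat_lit 2]), (nat_lit 79, [nat_lit 2, nat_lit 2, nat_lit 1, nat_lit 0]), (nat_lit 80, [nat_lit 4, nat_lit 4, nat_lit 0, nat_lit 2]), (nat_lit 81, [nat_lit 0, nat_lit 2, nat_lit 2]), (nat_lit 84, [nat_lit 4, nat_lit 4, nat_lit 1, nat_lit 0, nat_lit 1]), (nat_lit 85, [nat_lit 4, nat_lit 4, nat_lit 0, nat_lit 1]), (nat_lit 86, [nat_lit 2, nat_lit 1, nat_lit 1, nat_lit 0, nat_lit 0]), (nat_lit 89, [nat_lit 2, nat_lit 0, nat_lit 1, nat_lit 1, nat_lit 0]), (nat_lit 90, [nat_lit 4, nat_lit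 0]), (nat_lit 91, [nat_lit 4, nat_lit 2, nat_lit 2, nat_lit 0]), (nat_lit 92, [nat_lit 4, nat_lit 4, nat_lit 1, nat_lit 0, nat_lit 1, nat_lit 0]), (nat_lit 94, [nat_lit 2, nat_lit 0, nat_lit 2, nat_lit 1, nat_lit 1]), (nat_lit 96, [nat_lit 4, nat_lit 0, nat_lit 2, nat_lit 0]), (nat_lit 97, [nat_lit 3, nat_lit 3]), (nat_lit 98, [nat_lit 0, nat_lit 0]), (nat_lit 100, [nat_lit 4, nat_lit 0, nat_lit 0, nat_lit 1]), (nat_lit 101, [nat_lit 2, nat_lit 2, nat_lit 0, nat_lit 2]), (nat_lit 103, [nat_lit 2, nat_lit 0, nat_lit 0]), (nat_lit 104, [nat_lit 1, nat_lit 2, nat_lit 2, nat_lit 1, nat_lit 0, nat_lit 0]), (nat_lit 105, [nat_lit 2, nat_lit 0, nat_lit 2, nat_lit 0]), (nat_lit 106, [nat_lit 4, nat_lit 2, nat_lit 1, nat_lit 0]), (nat_lit 107, [nat_lit 3, nat_lit 1, nat_lit 1, nat_lit 2, nat_lit 0]), (nat_lit 109, [nat_lit 4, nat_lit 0, nat_lit 1, nat_lit 1]), (nat_lit 110, [nat_lit 0, nat_lit 2, nat_lit 0]), (nat_lit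 113, [nat_lit 1, nat_lit 2]), (nat_lit 114, [nat_lit 0, nat_lit 0, nat_lit 2, nat_lit 1]), (nat_lit 115, [nat_lit 3, nat_lit 1, nat_lit 2, nat_lit 0]), (nat_lit 117, [nat_lit 3, nat_lit 2, nat_lit 2, nat_lit 0, nat_lit 0, nat_lit 0]), (nat_lit 118, [nat_lit 4, nat_lit 4, nat_lit 1, nat_lit 1, nat_lit 0]), (nat_lit 121, [nat_lit 3, nat_lit 0, nat_lit 2, nat_lit 2, nat_lit 0]), (nat_lit 123, [nat_lit 1, nat_lit 0, nat_lit 1, nat_lit 0]), (nat_lit 124, [nat_lit 4, nat_lit 2, nat_lit 1, nat_lit 2, nat_lit 1]), (nat_lit 127, [nat_lit 2, nat_lit 2, nat_lit 0, nat_lit 0, nat_lit 1]), (nat_lit 130, [nat_lit 4, nat_lit 2, nat_lit 0]), (nat_lit 132, [nat_lit 2, nat_lit 2, nat_lit 0]), (nat_lit 135, [nat_lit 1, nat_lit 2, nat_lit 0, nat_lit 1]), (nat_lit 136, [nat_lit 4, nat_lit 4, nat_lit 0]), (nat_lit 137, [nat_lit 0, nat_lit 1, nat_lit 0]), (nat_lit 138, [nat_lit 1, nat_lit 1, nat_lit 0, nat_lit 0]), (nat_lit 139, [nat_lit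 3, nat_lit 0, nat_lit 1]), (nat_lit 140, [nat_lit 4, nat_lit 2, nat_lit 2, nat_lit 1]), (nat_lit 141, [nat_lit 4, nat_lit 4, nat_lit 0, nat_lit 0]), (nat_lit 143, [nat_lit 1, nat_lit 0]), (nat_lit 144, [nat_lit 3, nat_lit 1, nat_lit 2, nat_lit 2, nat_lit 1]), (nat_lit 145, [nat_lit 2, nat_lit 2, nat_lit 1, nat_lit 1, nat_lit 0, nat_lit 0]), (nat_lit 148, [nat_lit 2, nat_lit 2, nat_lit 1, nat_lit 1, nat_lit 1]), (nat_lit 149, [nat_lit 0, nat_lit 2, nat_lit 2, nat_lit 0]), (nat_lit 150, [nat_lit 0, nat_lit 2]), (nat_lit 153, [nat_lit 0, nat_lit 2, nat_lit 1, nat_lit 0]), (nat_lit 154, [nat_lit 2, nat_lit 1, nat_lit 2, nat_lit 0]), (nat_lit 155, [nat_lit 0, nat_lit 0, nat_lit 1]), (nat_lit 156, [nat_lit 3, nat_lit 1, nat_lit 1, nat_lit 2]), (nat_lit 159, [nat_lit 4, nat_lit 4]), (nat_lit 160, [nat_lit 2, nat_lit 0]), (nat_lit 161, [nat_lit 4, nat_lit 1, nat_lit 2, nat_lit 1]), (nat_lit 163, [nat_lit 4, nat_lit 2,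 nat_lit 0, nat_lit 0]), (nat_lit 164, [nat_lit 2, nat_lit 0, nat_lit 2, nat_lit 0, nat_lit 1]), (nat_lit 165, [nat_lit 3, nat_lit 0, nat_lit 0, nat_lit 2]), (nat_lit 166, [nat_lit 0, nat_lit 2, nat_lit 1]), (nat_lit 168, [nat_lit 1, nat_lit 2, nat_lit 2, nat_lit 1]), (nat_lit 169, [nat_lit 3, nat_lit 3, nat_lit 2]), (nat_lit 171, [nat_lit 2, nat_lit 2, nat_lit 1, nat_lit 1, nat_lit 0]), (nat_lit 172, [nat_lit 4, nat_lit 0, nat_lit 1, nat_lit 1, nat_lit 0]), (nat_lit 174, [nat_lit 2, nat_lit 2, nat_lit 0, nat_lit 1, nat_lit 0]), (nat_lit 175, [nat_lit 2, nat_lit 0, nat_lit 2]), (nat_lit 176, [nat_lit 4, nat_lit 1, nat_lit 0, nat_lit 1]), (nat_lit 178, [nat_lit 4, nat_lit 1, nat_lit 2, nat_lit 2, nat_lit 0]), (nat_lit 179, [nat_lit 4, nat_lit 2, nat_lit 1, nat_lit 2]), (nat_lit 180, [nat_lit 4, nat_lit 0, nat_lit 0, nat_lit 2]), (nat_lit 181, [nat_lit 2, nat_lit 0, nat_lit 0, nat_lit 0]), (nat_lit 182, [nat_lit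 2, nat_lit 0, nat_lit 1]), (nat_lit 183, [nat_lit 2, nat_lit 1, nat_lit 2, nat_lit 1, nat_lit 0, nat_lit 0]), (nat_lit 184, [nat_lit 3, nat_lit 3, nat_lit 0]), (nat_lit 186, [nat_lit 3, nat_lit 1, nat_lit 2, nat_lit 1]), (nat_lit 187, [nat_lit 2, nat_lit 2, nat_lit 0, nat_lit 1, nat_lit 1, nat_lit 0]), (nat_lit 188, [nat_lit 4, nat_lit 3, nat_lit 1, nat_lit 2, nat_lit 0]), (nat_lit 190, [nat_lit 4, nat_lit 3, nat_lit 0, nat_lit 0]), (nat_lit 191, [nat_lit 0, nat_lit 1, nat_lit 1]), (nat_lit 195, [nat_lit 3, nat_lit 1, nat_lit 2, nat_lit 0, nat_lit 0]), (nat_lit 196, [nat_lit 0, nat_lit 1, nat_lit 1, nat_lit 0]), (nat_lit 197, [nat_lit 4, nat_lit 1, nat_lit 1]), (nat_lit 198, [nat_lit 1, nat_lit 1, nat_lit 2, nat_lit 0, nat_lit 0]), (nat_lit 201, [nat_lit 4, nat_lit 3, nat_lit 2]), (nat_lit 202, [nat_lit 2, nat_lit 1, nat_lit 2, nat_lit 0, nat_lit 1, nat_lit 0]), (nat_lit 205, [nat_lit 3, nat_lit 1, nat_lit 1]),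 (nat_lit 206, [nat_lit 1, nat_lit 2, nat_lit 0, nat_lit 0]), (nat_lit 207, [nat_lit 0, nat_lit 1, nat_lit 0, nat_lit 0, nat_lit 0]), (nat_lit 208, [nat_lit 2, nat_lit 2, nat_lit 0, nat_lit 1]), (nat_lit 210, [nat_lit 4, nat_lit 4, nat_lit 1, nat_lit 1, nat_lit 0, nat_lit 0]), (nat_lit 211, [nat_lit 3, nat_lit 2, nat_lit 2, nat_lit 1, nat_lit 1]), (nat_lit 212, [nat_lit 3, nat_lit 2, nat_lit 0, nat_lit 0, nat_lit 0]), (nat_lit 214, [nat_lit 4, nat_lit 3, nat_lit 0, nat_lit 1]), (nat_lit 215, [nat_lit 4, nat_lit 4, nat_lit 0, nat_lit 1, nat_lit 0]), (nat_lit 216, [nat_lit 3, nat_lit 2, nat_lit 0, nat_lit 0]), (nat_lit 218, [nat_lit 4, nat_lit 1, nat_lit 2]), (nat_lit 219, [nat_lit 2, nat_lit 1, nat_lit 1]), (nat_lit 220, [nat_lit 4, nat_lit 2, nat_lit 1, nat_lit 2, nat_lit 0]), (nat_lit 221, [nat_lit 2, nat_lit 0, nat_lit 2, nat_lit 1]), (nat_lit 222, [nat_lit 1, nat_lit 1, nat_lit 1, nat_lit 1, nat_lit 1]), (nat_lit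 223, [nat_lit 3, nat_lit 3, nat_lit 2, nat_lit 1]), (nat_lit 225, [nat_lit 4, nat_lit 4, nat_lit 0, nat_lit 0, nat_lit 1]), (nat_lit 227, [nat_lit 3, nat_lit 0, nat_lit 0]), (nat_lit 228, [nat_lit 0]), (nat_lit 229, [nat_lit 3, nat_lit 2, nat_lit 2, nat_lit 1]), (nat_lit 231, [nat_lit 0, nat_lit 0, nat_lit 0, nat_lit 0]), (nat_lit 232, [nat_lit 2, nat_lit 2, nat_lit 1, nat_lit 0, nat_lit 0]), (nat_lit 233, [nat_lit 1, nat_lit 1, nat_lit 2]), (nat_lit 234, [nat_lit 1, nat_lit 2, nat_lit 2, nat_lit 0, nat_lit 1]), (nat_lit 235, [nat_lit 0, nat_lit 2, nat_lit 0, nat_lit 1]), (nat_lit 236, [nat_lit 1]), (nat_lit 239, [nat_lit 2, nat_lit 1, nat_lit 0]), (nat_lit 240, [nat_lit 3, nat_lit 2, nat_lit 1, nat_lit 2]), (nat_lit 242, [nat_lit 4, nat_lit 1, nat_lit 0]), (nat_lit 245, [nat_lit 1, nat_lit 0, nat_lit 0, nat_lit 2]), (nat_lit 247, [nat_lit 2, nat_lit 2, nat_lit 1]), (nat_lit 248, [nat_lit 1, nat_lit 2, nat_lit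 2, nat_lit 0, nat_lit 1, nat_lit 0]), (nat_lit 250, [nat_lit 2, nat_lit 1, nat_lit 0, nat_lit 1, nat_lit 0]), (nat_lit 252, [nat_lit 0, nat_lit 0, nat_lit 2]), (nat_lit 254, [nat_lit 4, nat_lit 4, nat_lit 1, nat_lit 1]), (nat_lit 257, [nat_lit 4, nat_lit 4, nat_lit 0, nat_lit 1, nat_lit 1]), (nat_lit 258, [nat_lit 1, nat_lit 1, nat_lit 2, nat_lit 0]), (nat_lit 259, [nat_lit 2, nat_lit 2, nat_lit 0, nat_lit 0]), (nat_lit 260, [nat_lit 2, nat_lit 2, nat_lit 1, nat_lit 0, nat_lit 1, nat_lit 0]), (nat_lit 261, [nat_lit 4, nat_lit 2, nat_lit 2]), (nat_lit 264, [nat_lit 4, nat_lit 0, nat_lit 2]), (nat_lit 267, [nat_lit 1, nat_lit 2, nat_lit 1]), (nat_lit 268, [nat_lit 4, nat_lit 1, nat_lit 1, nat_lit 0, nat_lit 0]), (nat_lit 270, [nat_lit 3, nat_lit 2, nat_lit 1]), (nat_lit 273, [nat_lit 2, nat_lit 2, nat_lit 1, nat_lit 0, nat_lit 1]), (nat_lit 275, [nat_lit 1, nat_lit 0, nat_lit 0, nat_lit 0]), (nat_lit 276, [nat_lit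 2, nat_lit 0, nat_lit 2, nat_lit 1, nat_lit 0]), (nat_lit 277, [nat_lit 3, nat_lit 2, nat_lit 0, nat_lit 2]), (nat_lit 279, [nat_lit 0, nat_lit 2, nat_lit 1, nat_lit 1, nat_lit 0]), (nat_lit 280, [nat_lit 3, nat_lit 3, nat_lit 0, nat_lit 0]), (nat_lit 281, [nat_lit 4, nat_lit 0, nat_lit 2, nat_lit 2]), (nat_lit 282, [nat_lit 4]), (nat_lit 283, [nat_lit 3, nat_lit 0]), (nat_lit 284, [nat_lit 3, nat_lit 3, nat_lit 2, nat_lit 2]), (nat_lit 288, [nat_lit 0, nat_lit 2, nat_lit 2, nat_lit 1, nat_lit 0]), (nat_lit 291, [nat_lit 2, nat_lit 2, nat_lit 0, nat_lit 2, nat_lit 0]), (nat_lit 292, [nat_lit 3, nat_lit 2, nat_lit 1, nat_lit 1]), (nat_lit 293, [nat_lit 2, nat_lit 2, nat_lit 1, nat_lit 1]), (nat_lit 294, [nat_lit 1, nat_lit 0, nat_lit 0]), (nat_lit 295, [nat_lit 2, nat_lit 0, nat_lit 1, nat_lit 1]), (nat_lit 296, [nat_lit 4, nat_lit 1, nat_lit 0, nat_lit 1, nat_lit 0]), (nat_lit 298, [nat_lit 4, nat_lit 2]), (nat_lit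 299, [nat_lit 3, nat_lit 2, nat_lit 0, nat_lit 1]), (nat_lit 301, [nat_lit 3, nat_lit 1]), (nat_lit 302, [nat_lit 2, nat_lit 1, nat_lit 2]), (nat_lit 303, [nat_lit 1, nat_lit 1, nat_lit 0]), (nat_lit 305, [nat_lit 1, nat_lit 2, nat_lit 1, nat_lit 0]), (nat_lit 306, [nat_lit 0, nat_lit 1, nat_lit 1, nat_lit 2, nat_lit 0]), (nat_lit 307, [nat_lit 2, nat_lit 2, nat_lit 0, nat_lit 0, nat_lit 0]), (nat_lit 308, [nat_lit 1, nat_lit 1, nat_lit 0, nat_lit 0, nat_lit 0]), (nat_lit 309, [nat_lit 2, nat_lit 1, nat_lit 2, nat_lit 0, nat_lit 0]), (nat_lit 311, [nat_lit 3, nat_lit 1, nat_lit 2, nat_lit 2]), (nat_lit 312, [nat_lit 3, nat_lit 2]), (nat_lit 313, [nat_lit 2, nat_lit 0, nat_lit 2, nat_lit 1, nat_lit 1, nat_lit 0]), (nat_lit 314, [nat_lit 3, nat_lit 1, nat_lit 2]), (nat_lit 315, [nat_lit 4, nat_lit 3, nat_lit 1]), (nat_lit 316, [nat_lit 2, nat_lit 1, nat_lit 2, nat_lit 1, nat_lit 0]), (nat_lit 318, [nat_lit 0, nat_lit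 1, nat_lit 1, nat_lit 2]), (nat_lit 319, [nat_lit 1, nat_lit 1, nat_lit 1, nat_lit 0, nat_lit 0]), (nat_lit 320, [nat_lit 0, nat_lit 1]), (nat_lit 322, [nat_lit 2, nat_lit 1, nat_lit 2, nat_lit 0, nat_lit 1]), (nat_lit 326, [nat_lit 1, nat_lit 2, nat_lit 2, nat_lit 0, nat_lit 0]), (nat_lit 327, [nat_lit 4, nat_lit 4, nat_lit 1, nat_lit 0, nat_lit 0]), (nat_lit 328, [nat_lit 1, nat_lit 1, nat_lit 1, nat_lit 1]), (nat_lit 329, [nat_lit 3]), (nat_lit 331, [nat_lit 3, nat_lit 0, nat_lit 0, nat_lit 0]), (nat_lit 332, [nat_lit 4, nat_lit 2, nat_lit 1, nat_lit 1]), (nat_lit 333, [nat_lit 4, nat_lit 1, nat_lit 2, nat_lit 2, nat_lit 1]), (nat_lit 334, [nat_lit 3, nat_lit 2, nat_lit 0]), (nat_lit 337, [nat_lit 0, nat_lit 2, nat_lit 2, nat_lit 0, nat_lit 1]), (nat_lit 340, [nat_lit 4, nat_lit 4, nat_lit 1, nat_lit 0]), (nat_lit 341, [nat_lit 3, nat_lit 2, nat_lit 2, nat_lit 0, nat_lit 0]), (nat_lit 342, [nat_lit 2, nat_lit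 2]), (nat_lit 344, [nat_lit 4, nat_lit 4, nat_lit 1]), (nat_lit 345, [nat_lit 4, nat_lit 1, nat_lit 1, nat_lit 0]), (nat_lit 346, [nat_lit 1, nat_lit 2, nat_lit 1, nat_lit 0, nat_lit 0]), (nat_lit 347, [nat_lit 4, nat_lit 3, nat_lit 1, nat_lit 1]), (nat_lit 348, [nat_lit 1, nat_lit 2, nat_lit 0]), (nat_lit 349, [nat_lit 4, nat_lit 3, nat_lit 1, nat_lit 2]), (nat_lit 350, [nat_lit 4, nat_lit 2, nat_lit 2, nat_lit 0, nat_lit 0]), (nat_lit 351, [nat_lit 0, nat_lit 2, nat_lit 2, nat_lit 1]), (nat_lit 352, [nat_lit 2, nat_lit 1, nat_lit 1, nat_lit 0]), (nat_lit 353, [nat_lit 1, nat_lit 0, nat_lit 1, nat_lit 0, nat_lit 0]), (nat_lit 354, [nat_lit 4, nat_lit 0, nat_lit 2, nat_lit 2, nat_lit 0]), (nat_lit 357, [nat_lit 4, nat_lit 1, nat_lit 1, nat_lit 2]), (nat_lit 358, [nat_lit 4, nat_lit 2, nat_lit 1]), (nat_lit 360, [nat_lit 1, nat_lit 1, nat_lit 1])]),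
  ([[nat_lit 0]], nat_lit 52, [(nat_lit 52, []), (nat_lit 246, [nat_lit 0, nat_lit 0]), (nat_lit 272, [nat_lit 0])])]

theorem rel0 : P.relRow (dT T W) B 0 = true := by decide +kernel
theorem rel1 : P.relRow (dT T W) B 1 = true := by decide +kernel
theorem rel2 : P.relRow (dT T W) B 2 = true := by decide +kernel
theorem rel3 : P.relRow (dT T W) B 3 = true := by decide +kernel
theorem rel4 : P.relRow (dT T W) B 4 = true := by decide +kernel
theorem rel5 : P.relRow (dT T W) B 5 = true := by decide +kernel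
theorem fus0 : P.fusOk (dT T W) B fu 0 = true := by decide +kernel
theorem fus1 : P.fusOk (dT T W) B fu 1 = true := by decide +kernel
theorem fus2 : P.fusOk (dT T W) B fu 2 = true := by decide +kernel
theorem fus3 : P.fusOk (dT T W) B fu 3 = true := by decide +kernel
theorem fus4 : P.fusOk (dT T W) B fu 4 = true := by decide +kernel
theorem fus5 : P.fusOk (dT T W) B fu 5 = true := by decide +kernel
theorem fus6 : P.fusOk (dT T W) B fu 6 = true := by decide +kernel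
theorem fus7 : P.fusOk (dT T W) B fu 7 = true := by decide +kernel
theorem fus8 : P.fusOk (dT T W) B fu 8 = true := by decide +kernel
theorem fus9 : P.fusOk (dT T W) B fu 9 = true := by decide +kernel
theorem fus10 : P.fusOk (dT T W) B fu 10 = true := by decide +kernel
theorem fus11 : P.fusOk (dT T W) B fu 11 = true := by decide +kernel
theorem fin0 : P.finRow lam (bs :: CV) MU 0 = true := by decide +kernel
theorem fin1 : P.finRow lam (bs :: CV) MU 1 = true := by decide +kernel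
theorem fin2 : P.finRow lam (bs :: CV) MU 2 = true := by decide +kernel
theorem fin3 : P.finRow lam (bs :: CV) MU 3 = true := by decide +kernel
theorem fin4 : P.finRow lam (bs :: CV) MU 4 = true := by decide +kernel
theorem fin5 : P.finRow lam (bs :: CV) MU 5 = true := by decide +kernel

theorem pm {G : Type*} [Group G] [Finite G] {A : RAct G 364} {g : ℕ → G} (hb : A.IsBase B)
    (h : A.Tab g 16 T) (ho : Nat.card G = 4245696) : PMult G 3 1 1 :=
  pmult_of_tab hb h ho P (show Nat.Prime 3 by norm_num) W fu 1 lam bs mo [cc0, cc1] CV MU lv 12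
    (by decide +kernel) (forall_lt_succ' (forall_lt_succ' (forall_lt_succ' (forall_lt_succ' (forall_lt_succ' (forall_lt_succ' forall_lt_zero' rel0) rel1) rel2) rel3) rel4) rel5) (by decide +kernel)
    (forall_lt_succ' (forall_lt_succ' (forall_lt_succ' (forall_lt_succ' (forall_lt_succ' (forall_lt_succ' (forall_lt_succ' (forall_lt_succ' (forall_lt_succ' (forall_lt_succ' (forall_lt_succ' (forall_lt_succ' forall_lt_zero' fus0) fus1) fus2) fus3) fus4) fus5) fus6) fus7) fus8) fus9) fus10) fus11)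
    (by decide +kernel) (by decide +kernel) (by decide +kernel) (by decide +kernel)
    (List.forall_mem_cons.mpr ⟨con0, (List.forall_mem_cons.mpr ⟨con1, (by simp)⟩)⟩)
    (forall_lt_succ' (forall_lt_succ' (forall_lt_succ' (forall_lt_succ' (forall_lt_succ' (forall_lt_succ' forall_lt_zero' fin0) fin1) fin2) fin3) fin4) fin5) (by decide +kernel)

end Cfsg.Agent.H3.G23.P3
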