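import Cfsg.Agent.L0.CosetChain

/-! Generated coset table certificate. -/

set_option autoImplicit false
set_option maxRecDepth 100000

open Cfsg.Agent.L0

namespace Cfsg.Agent.H3.G23.Tc1

noncomputable def t0 : BT := .node (.leaf (nat_lit 0x695aab49387744744366745500055543782400049b41364992892524a99a114e8e11e214d150001ad104d1d4001d298a19f21a24934d252a4db45250aabbe2600047347b49600061268a8869585cadaa11899d21a91ca1519200011ed0d003000252104a99e4a152a48748546200b645432c4700000a4120090006c762543886853cb21919d22188d91d0e10c80011c80210c800119801d0453e04e68e3474455846444665823000006005411000463004623438080480480480480480480480400080480400c000804804008000)) (.leaf (nat_lit 0x57c56c4bc4ac69c4ac49c46900055c6ac48700054c4bc415cf912e1cd5399ca9051319c29a2c0012a1229dac0011961995ef92353751453bb1647551bcf6b2a00093749655a00061487b94ad58d5e55a53252e5ce52652261700015662251600015252650533e3))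

noncomputable def tree : BT := t0

noncomputable def row : ℕ → ℕ := rowOf tree (nat_lit 3) (nat_lit 7) (nat_lit 206) (nat_lit 0x3fffffffffffffffffffffffffffffffffffffffffffffffffff)

noncomputable def cols : List Col := [⟨nat_lit 14, nat_lit 0, [([nat_lit 62], nat_lit 0), ([nat_lit 14, nat_lit 14], nat_lit 0), ([nat_lit 86, nat_lit 110, nat_lit 38, nat_lit 62, nat_lit 146], nat_lit 0), ([nat_lit 110, nat_lit 14, nat_lit 110], nat_lit 0)]⟩,
  ⟨nat_lit 26, nat_lit 1, [([nat_lit 74], nat_lit 0), ([nat_lit 26, nat_lit 26], nat_lit 0), ([nat_lit 146, nat_lit 26, nat_lit 146], nat_lit 0)]⟩,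
  ⟨nat_lit 38, nat_lit 1, [([nat_lit 110, nat_lit 146, nat_lit 110, nat_lit 146], nat_lit 0), ([nat_lit 86], nat_lit 0), ([nat_lit 194, nat_lit 86, nat_lit 182], nat_lit 0)]⟩,
  ⟨nat_lit 62, nat_lit 0, [([nat_lit 14], nat_lit 0), ([nat_lit 74, nat_lit 62, nat_lit 74, nat_lit 62, nat_lit 122], nat_lit 0), ([nat_lit 74, nat_lit 62, nat_lit 122, nat_lit 62, nat_lit 74], nat_lit 0)]⟩,
  ⟨nat_lit 74, nat_lit 1, [([nat_lit 26], nat_lit 0), ([nat_lit 110, nat_lit 26, nat_lit 110], nat_lit 0), ([nat_lit 62, nat_lit 74, nat_lit 62, nat_lit 122, nat_lit 62], nat_lit 0)]⟩,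
  ⟨nat_lit 86, nat_lit 1, [([nat_lit 38], nat_lit 0), ([nat_lit 134, nat_lit 182, nat_lit 122], nat_lit 0), ([nat_lit 182, nat_lit 38, nat_lit 194], nat_lit 0)]⟩,
  ⟨nat_lit 110, nat_lit 1, [([nat_lit 110], nat_lit 0), ([nat_lit 26, nat_lit 110, nat_lit 74], nat_lit 0), ([nat_lit 14, nat_lit 110, nat_lit 14], nat_lit 0), ([nat_lit 158, nat_lit 110, nat_lit 134], nat_lit 0), ([nat_lit 74, nat_lit 110, nat_lit 26], nat_lit 0), ([nat_lit 38, nat_lit 62, nat_lit 146, nat_lit 14, nat_lit 86], nat_lit 0)]⟩,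
  ⟨nat_lit 122, nat_lit 1, [([nat_lit 62, nat_lit 74, nat_lit 62, nat_lit 74, nat_lit 62], nat_lit 0), ([nat_lit 122, nat_lit 122], nat_lit 0), ([nat_lit 134], nat_lit 0), ([nat_lit 86, nat_lit 134, nat_lit 182], nat_lit 0), ([nat_lit 146, nat_lit 182, nat_lit 86, nat_lit 122, nat_lit 146], nat_lit 0)]⟩,
  ⟨nat_lit 134, nat_lit 1, [([nat_lit 122], nat_lit 0), ([nat_lit 74, nat_lit 122, nat_lit 26], nat_lit 0)]⟩,
  ⟨nat_lit 146, nat_lit 1, [([nat_lit 146], nat_lit 0), ([nat_lit 14, nat_lit 86, nat_lit 110, nat_lit 38, nat_lit 62], nat_lit 0), ([nat_lit 38, nat_lit 110, nat_lit 146, nat_lit 110], nat_lit 0), ([nat_lit 26, nat_lit 146, nat_lit 26], nat_lit 0)]⟩,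
  ⟨nat_lit 158, nat_lit 1, [([nat_lit 110, nat_lit 134, nat_lit 110], nat_lit 0), ([nat_lit 158, nat_lit 158], nat_lit 0), ([nat_lit 170], nat_lit 0), ([nat_lit 122, nat_lit 170, nat_lit 134], nat_lit 0)]⟩,
  ⟨nat_lit 170, nat_lit 1, [([nat_lit 158], nat_lit 0), ([nat_lit 74, nat_lit 158, nat_lit 26], nat_lit 0)]⟩,
  ⟨nat_lit 182, nat_lit 1, [([nat_lit 122, nat_lit 86, nat_lit 134], nat_lit 0), ([nat_lit 194], nat_lit 0), ([nat_lit 182, nat_lit 182], nat_lit 0), ([nat_lit 26, nat_lit 194, nat_lit 74], nat_lit 0), ([nat_lit 86, nat_lit 122, nat_lit 146, nat_lit 122, nat_lit 146], nat_lit 0)]⟩,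
  ⟨nat_lit 194, nat_lit 1, [([nat_lit 182], nat_lit 0), ([nat_lit 74, nat_lit 182, nat_lit 26], nat_lit 0)]⟩]

noncomputable def erots : List (List ℕ × ℕ) := []

noncomputable def gens : List ℕ := [nat_lit 14, nat_lit 26, nat_lit 38, nat_lit 62, nat_lit 74, nat_lit 86, nat_lit 110, nat_lit 122, nat_lit 134, nat_lit 146, nat_lit 158, nat_lit 170, nat_lit 182, nat_lit 194]

noncomputable def chk : ℕ → Bool := chkRow0 row (nat_lit 12) (nat_lit 0xf) (nat_lit 0x1f0) (nat_lit 9) (nat_lit 0x7) (nat_lit 0) (nat_lit 0xf) (nat_lit 4) (nat_lit 0xff) (nat_lit 0x3000) [] cols gens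

theorem b0 : allR chk 4 0 = true := by decide +kernel

noncomputable def T : CT := ⟨row, nat_lit 12, nat_lit 12, nat_lit 0xf, nat_lit 0x1f0, nat_lit 9, nat_lit 0x7, nat_lit 0, nat_lit 0xf, nat_lit 4, nat_lit 0xff, nat_lit 0x3000, nat_lit 206, nat_lit 206, nat_lit 0, nat_lit 6, [], cols, erots, gens⟩

theorem all : ∀ c < 12, chk c = true := fun c hc =>
  allR_glue (d := 4) (n := 1) (forall_lt_succ' forall_lt_zero' b0) c (lt_of_lt_of_le hc (by norm_num))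

/-- the relators used -/
def R : List (List ℕ) := [[nat_lit 0, nat_lit 4],
  [nat_lit 1, nat_lit 5],
  [nat_lit 2, nat_lit 6],
  [nat_lit 8, nat_lit 8],
  [nat_lit 9, nat_lit 10],
  [nat_lit 11, nat_lit 11],
  [nat_lit 12, nat_lit 13],
  [nat_lit 14, nat_lit 15],
  [nat_lit 4, nat_lit 5, nat_lit 4, nat_lit 5, nat_lit 4, nat_lit 9],
  [nat_lit 0, nat_lit 6, nat_lit 8, nat_lit 2, nat_lit 4, nat_lit 11],
  [nat_lit 8, nat_lit 10, nat_lit 8, nat_lit 12],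
  [nat_lit 9, nat_lit 6, nat_lit 10, nat_lit 14],
  [nat_lit 1, nat_lit 1, nat_lit 1],
  [nat_lit 14, nat_lit 14, nat_lit 14],
  [nat_lit 11, nat_lit 1, nat_lit 11, nat_lit 1],
  [nat_lit 14, nat_lit 1, nat_lit 15, nat_lit 5],
  [nat_lit 14, nat_lit 2, nat_lit 15, nat_lit 6],
  [nat_lit 9, nat_lit 9, nat_lit 9],
  [nat_lit 12, nat_lit 12, nat_lit 12],
  [nat_lit 9, nat_lit 1, nat_lit 10, nat_lit 5],
  [nat_lit 12, nat_lit 1, nat_lit 13, nat_lit 5],
  [nat_lit 12, nat_lit 9, nat_lit 13, nat_lit 10],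
  [nat_lit 9, nat_lit 11, nat_lit 9, nat_lit 11, nat_lit 14, nat_lit 6],
  [nat_lit 8, nat_lit 1, nat_lit 8, nat_lit 5],
  [nat_lit 8, nat_lit 11, nat_lit 8, nat_lit 11, nat_lit 2],
  [nat_lit 0, nat_lit 0, nat_lit 0],
  [nat_lit 0, nat_lit 8, nat_lit 0, nat_lit 8]]

theorem cert : Cert T (R.map fun r => (r, 0)) ([1, 2, 5, 6, 8, 9, 10, 11, 12, 13, 14, 15].map fun y => (y, 0)) 14 12 [0, 1, 2, 4, 5, 6, 8, 9, 10, 11, 12, 13, 14, 15] :=
  ⟨by decide +kernel, ⟨[[(0, 0), (25, 0), (9, 0), (26, 0)], [(1, 0), (12, 0), (14, 1)], [(24, 4), (2, 0), (16, 1)], [(0, 1), (8, 0), (8, 2)], [(1, 1), (23, 3), (8, 1)], [(2, 1), (11, 1), (16, 3)], [(3, 0), (23, 0), (26, 1), (10, 2), (23, 2), (9, 2)], [(8, 5), (17, 0), (4, 0), (11, 0), (22, 2)], [(4, 1), (19, 2)], [(5, 0), (9, 5), (24, 3), (14, 0)], [(10, 3), (18, 0), (6, 0), (21, 0)], [(6, 1), (20, 2)], [(11, 3), (7, 0), (13, 0), (15, 0), (22, 4)], [(7, 1), (15, 2)]],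 [], by decide +kernel⟩, by decide +kernel, Or.inl ⟨rfl, all⟩⟩

theorem bound {Γ : Type*} [Group Γ] {x : ℕ → Γ} (hR : ∀ r ∈ R, ev x r = 1) {n : ℕ}
    (h : CardLe x [1, 2, 5, 6, 8, 9, 10, 11, 12, 13, 14, 15] n) : CardLe x [0, 1, 2, 4, 5, 6, 8, 9, 10, 11, 12, 13, 14, 15] (12 * n) :=
  cert.cardLe rfl hR h

end Cfsg.Agent.H3.G23.Tc1
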