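import Cfsg.Agent.L0.CosetChain

/-! Generated coset table certificate. -/

set_option autoImplicit false
set_option maxRecDepth 100000

open Cfsg.Agent.L0

namespace Cfsg.Agent.H3.G23.Tc2

noncomputable def t0 : BT := .leaf (nat_lit 0x2d569d2a54a9d140529c0004e9402862142850a14284100428400042840000)

noncomputable def tree : BT := t0

noncomputable def row : ℕ → ℕ := rowOf tree (nat_lit 3) (nat_lit 7) (nat_lit 123) (nat_lit 0x7ffffffffffffffffffffffffffffff)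

noncomputable def cols : List Col := [⟨nat_lit 18, nat_lit 1, [([nat_lit 67, nat_lit 46, nat_lit 67], nat_lit 0)]⟩,
  ⟨nat_lit 25, nat_lit 1, [([nat_lit 67, nat_lit 88, nat_lit 67, nat_lit 88], nat_lit 0)]⟩,
  ⟨nat_lit 46, nat_lit 1, [([nat_lit 18], nat_lit 0)]⟩,
  ⟨nat_lit 53, nat_lit 1, [([nat_lit 25], nat_lit 0)]⟩,
  ⟨nat_lit 67, nat_lit 0, [([nat_lit 67], nat_lit 0)]⟩,
  ⟨nat_lit 74, nat_lit 1, [([nat_lit 81], nat_lit 0)]⟩,
  ⟨nat_lit 81, nat_lit 1, [([nat_lit 67, nat_lit 95, nat_lit 67], nat_lit 0)]⟩,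
  ⟨nat_lit 88, nat_lit 1, [([nat_lit 67, nat_lit 88, nat_lit 25, nat_lit 67], nat_lit 0)]⟩,
  ⟨nat_lit 95, nat_lit 1, [([nat_lit 67, nat_lit 81, nat_lit 67], nat_lit 0)]⟩,
  ⟨nat_lit 102, nat_lit 1, [([nat_lit 95], nat_lit 0)]⟩,
  ⟨nat_lit 109, nat_lit 1, [([nat_lit 74, nat_lit 53, nat_lit 81], nat_lit 0)]⟩,
  ⟨nat_lit 116, nat_lit 1, [([nat_lit 109], nat_lit 0)]⟩]

noncomputable def erots : List (List ℕ × ℕ) := []

noncomputable def gens : List ℕ := [nat_lit 18, nat_lit 25, nat_lit 46, nat_lit 53, nat_lit 67, nat_lit 74, nat_lit 81, nat_lit 88, nat_lit 95, nat_lit 102, nat_lit 109, nat_lit 116]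

noncomputable def chk : ℕ → Bool := chkRow0 row (nat_lit 2) (nat_lit 0x3) (nat_lit 0x1c) (nat_lit 5) (nat_lit 0x3) (nat_lit 0) (nat_lit 0x3) (nat_lit 2) (nat_lit 0xff) (nat_lit 0x400) [] cols gens

theorem b0 : allR chk 1 0 = true := by decide +kernel

noncomputable def T : CT := ⟨row, nat_lit 2, nat_lit 2, nat_lit 0x3, nat_lit 0x1c, nat_lit 5, nat_lit 0x3, nat_lit 0, nat_lit 0x3, nat_lit 2, nat_lit 0xff, nat_lit 0x400, nat_lit 123, nat_lit 123, nat_lit 0, nat_lit 5, [], cols, erots, gens⟩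

theorem all : ∀ c < 2, chk c = true := fun c hc =>
  allR_glue (d := 1) (n := 1) (forall_lt_succ' forall_lt_zero' b0) c (lt_of_lt_of_le hc (by norm_num))

/-- the relators used -/
def R : List (List ℕ) := [[nat_lit 1, nat_lit 5],
  [nat_lit 2, nat_lit 6],
  [nat_lit 8, nat_lit 8],
  [nat_lit 9, nat_lit 10],
  [nat_lit 12, nat_lit 13],
  [nat_lit 14, nat_lit 15],
  [nat_lit 8, nat_lit 10, nat_lit 8, nat_lit 12],
  [nat_lit 9, nat_lit 6, nat_lit 10, nat_lit 14],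
  [nat_lit 8, nat_lit 1, nat_lit 8, nat_lit 5],
  [nat_lit 8, nat_lit 11, nat_lit 8, nat_lit 11, nat_lit 2]]

theorem cert : Cert T (R.map fun r => (r, 0)) ([1, 2, 5, 6, 9, 10, 11, 12, 13, 14, 15].map fun y => (y, 0)) 11 7 [1, 2, 5, 6, 8, 9, 10, 11, 12, 13, 14, 15] :=
  ⟨by decide +kernel, ⟨[[(8, 1)], [(9, 4)], [(0, 1)], [(1, 1)], [(2, 0)], [(3, 0)], [(6, 1)], [(9, 1)], [(6, 3)], [(4, 1)], [(7, 3)], [(5, 1)]], [], by decide +kernel⟩, by decide +kernel, Or.inl ⟨rfl, all⟩⟩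

theorem bound {Γ : Type*} [Group Γ] {x : ℕ → Γ} (hR : ∀ r ∈ R, ev x r = 1) {n : ℕ}
    (h : CardLe x [1, 2, 5, 6, 9, 10, 11, 12, 13, 14, 15] n) : CardLe x [1, 2, 5, 6, 8, 9, 10, 11, 12, 13, 14, 15] (2 * n) :=
  cert.cardLe rfl hR h

end Cfsg.Agent.H3.G23.Tc2
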