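import Cfsg.Agent.L0.CosetChain

/-! Generated coset table certificate. -/

set_option autoImplicit false
set_option maxRecDepth 100000

open Cfsg.Agent.L0

namespace Cfsg.Agent.H3.G23.Tc3

noncomputable def t0 : BT := .node (.leaf (nat_lit 0x561c844da971d4689000001d85e000001c89a000a189c755d3644958695490000051e370000055d4700290179976449a7765346e00000156558000016671800a185a54d534445346a53700000b1625000005553500190055244445a56953889800001b44d000001a4a900061813368c09021324c911000008cda30000050d33001720549c201c0688d1168c00001224c80000132688005a0081204050108100c0200000204810000020481000000)) (.leaf (nat_lit 0x1d95a53844d666dd35000005a5c9000005e559002902))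

noncomputable def tree : BT := t0

noncomputable def row : ℕ → ℕ := rowOf tree (nat_lit 3) (nat_lit 7) (nat_lit 174) (nat_lit 0x3fffffffffffffffffffffffffffffffffffffffffff)

noncomputable def cols : List Col := [⟨nat_lit 24, nat_lit 1, [([nat_lit 64], nat_lit 0), ([nat_lit 114, nat_lit 64, nat_lit 104], nat_lit 0), ([nat_lit 124, nat_lit 24, nat_lit 124], nat_lit 0), ([nat_lit 144, nat_lit 64, nat_lit 134], nat_lit 0)]⟩,
  ⟨nat_lit 34, nat_lit 1, [([nat_lit 74], nat_lit 0), ([nat_lit 144, nat_lit 164, nat_lit 134], nat_lit 0)]⟩,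
  ⟨nat_lit 64, nat_lit 1, [([nat_lit 24], nat_lit 0), ([nat_lit 104, nat_lit 24, nat_lit 114], nat_lit 0), ([nat_lit 134, nat_lit 24, nat_lit 144], nat_lit 0)]⟩,
  ⟨nat_lit 74, nat_lit 1, [([nat_lit 114, nat_lit 154, nat_lit 104], nat_lit 0), ([nat_lit 34], nat_lit 0), ([nat_lit 104, nat_lit 124, nat_lit 104, nat_lit 124, nat_lit 154], nat_lit 0), ([nat_lit 134, nat_lit 124, nat_lit 134, nat_lit 124, nat_lit 154], nat_lit 0)]⟩,
  ⟨nat_lit 104, nat_lit 0, [([nat_lit 114], nat_lit 0), ([nat_lit 104, nat_lit 104], nat_lit 0), ([nat_lit 144, nat_lit 114, nat_lit 134], nat_lit 0)]⟩,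
  ⟨nat_lit 114, nat_lit 0, [([nat_lit 104], nat_lit 0), ([nat_lit 134, nat_lit 104, nat_lit 144], nat_lit 0)]⟩,
  ⟨nat_lit 124, nat_lit 1, [([nat_lit 124], nat_lit 0), ([nat_lit 134, nat_lit 124, nat_lit 154, nat_lit 74, nat_lit 134], nat_lit 0), ([nat_lit 104, nat_lit 124, nat_lit 154, nat_lit 74, nat_lit 104], nat_lit 0)]⟩,
  ⟨nat_lit 134, nat_lit 0, [([nat_lit 144], nat_lit 0), ([nat_lit 134, nat_lit 134], nat_lit 0)]⟩,
  ⟨nat_lit 144, nat_lit 0, [([nat_lit 134], nat_lit 0)]⟩,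
  ⟨nat_lit 154, nat_lit 1, [([nat_lit 164], nat_lit 0), ([nat_lit 104, nat_lit 74, nat_lit 114], nat_lit 0), ([nat_lit 34, nat_lit 124, nat_lit 164, nat_lit 124], nat_lit 0)]⟩,
  ⟨nat_lit 164, nat_lit 1, [([nat_lit 154], nat_lit 0), ([nat_lit 134, nat_lit 34, nat_lit 144], nat_lit 0)]⟩]

noncomputable def erots : List (List ℕ × ℕ) := []

noncomputable def gens : List ℕ := [nat_lit 24, nat_lit 34, nat_lit 64, nat_lit 74, nat_lit 104, nat_lit 114, nat_lit 124, nat_lit 134, nat_lit 144, nat_lit 154, nat_lit 164]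

noncomputable def chk : ℕ → Bool := chkRow0 row (nat_lit 9) (nat_lit 0xf) (nat_lit 0x70) (nat_lit 7) (nat_lit 0x7) (nat_lit 0) (nat_lit 0xf) (nat_lit 4) (nat_lit 0xff) (nat_lit 0x3000) [] cols gens

theorem b0 : allR chk 4 0 = true := by decide +kernel

noncomputable def T : CT := ⟨row, nat_lit 9, nat_lit 9, nat_lit 0xf, nat_lit 0x70, nat_lit 7, nat_lit 0x7, nat_lit 0, nat_lit 0xf, nat_lit 4, nat_lit 0xff, nat_lit 0x3000, nat_lit 174, nat_lit 174, nat_lit 0, nat_lit 6, [], cols, erots, gens⟩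

theorem all : ∀ c < 9, chk c = true := fun c hc =>
  allR_glue (d := 4) (n := 1) (forall_lt_succ' forall_lt_zero' b0) c (lt_of_lt_of_le hc (by norm_num))

/-- the relators used -/
def R : List (List ℕ) := [[nat_lit 1, nat_lit 5],
  [nat_lit 2, nat_lit 6],
  [nat_lit 9, nat_lit 10],
  [nat_lit 11, nat_lit 11],
  [nat_lit 12, nat_lit 13],
  [nat_lit 14, nat_lit 15],
  [nat_lit 9, nat_lit 6, nat_lit 10, nat_lit 14],
  [nat_lit 11, nat_lit 1, nat_lit 11, nat_lit 1],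
  [nat_lit 2, nat_lit 11, nat_lit 15, nat_lit 11, nat_lit 14],
  [nat_lit 9, nat_lit 9, nat_lit 9],
  [nat_lit 12, nat_lit 12, nat_lit 12],
  [nat_lit 9, nat_lit 1, nat_lit 10, nat_lit 5],
  [nat_lit 12, nat_lit 1, nat_lit 13, nat_lit 5],
  [nat_lit 12, nat_lit 2, nat_lit 13, nat_lit 15],
  [nat_lit 12, nat_lit 9, nat_lit 13, nat_lit 10],
  [nat_lit 9, nat_lit 11, nat_lit 9, nat_lit 11, nat_lit 14, nat_lit 6],
  [nat_lit 12, nat_lit 11, nat_lit 12, nat_lit 11, nat_lit 14, nat_lit 6]]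

theorem cert : Cert T (R.map fun r => (r, 0)) ([1, 2, 5, 6, 11, 14, 15].map fun y => (y, 0)) 14 10 [1, 2, 5, 6, 9, 10, 11, 12, 13, 14, 15] :=
  ⟨by decide +kernel, ⟨[[(0, 0), (11, 1), (7, 1), (12, 1)], [(1, 0), (13, 1)], [(0, 1), (11, 3), (12, 3)], [(6, 1), (1, 1), (15, 5), (16, 5)], [(2, 0), (9, 0), (14, 1)], [(2, 1), (14, 3)], [(3, 0), (16, 1), (15, 1)], [(4, 0), (10, 0)], [(4, 1)], [(5, 0), (6, 3), (8, 4)], [(5, 1), (13, 3)]], [], by decide +kernel⟩, by decide +kernel, Or.inl ⟨rfl, all⟩⟩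

theorem bound {Γ : Type*} [Group Γ] {x : ℕ → Γ} (hR : ∀ r ∈ R, ev x r = 1) {n : ℕ}
    (h : CardLe x [1, 2, 5, 6, 11, 14, 15] n) : CardLe x [1, 2, 5, 6, 9, 10, 11, 12, 13, 14, 15] (9 * n) :=
  cert.cardLe rfl hR h

end Cfsg.Agent.H3.G23.Tc3
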